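import Groth.Agent.Lib.SmoothConn.Main
import Mathlib.RingTheory.Flat.EquationalCriterion
import Mathlib.RingTheory.Flat.FaithfullyFlat.Algebra
import Mathlib.RingTheory.Ideal.KrullsHeightTheorem
import Mathlib.RingTheory.KrullDimension.NonZeroDivisors
import Mathlib.RingTheory.Localization.FractionRing

/-!
# Branches of dimension one of a henselian domain along a completion-like extension

If `D → E` is a flat local homomorphism of Noetherian local rings inducing an isomorphism of residue
fields with `𝔪_D E = 𝔪_E`, `D` is a henselian domain and `E` has an irreducible component of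
dimension one, then `D` has dimension one.
-/

universe u

open IsLocalRing TensorProduct

namespace GrothLib.HensDimOne4

variable {D E : Type u} [CommRing D] [CommRing E] [Algebra D E]

/-- Closed fibre a field: same dimension. -/
theorem ringKrullDim_eq_of_map_maximalIdeal [IsLocalRing D] [IsLocalRing E] [IsNoetherianRing D]
    [IsNoetherianRing E] [Module.Flat D E]
    (hm : (maximalIdeal D).map (algebraMap D E) = maximalIdeal E) :
    ringKrullDim E = ringKrullDim D := by
  haveI : (maximalIdeal E).LiesOver (maximalIdeal D) :=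
    ⟨(((maximalIdeal.isMaximal D).eq_of_le (Ideal.comap_ne_top _ (maximalIdeal.isMaximal E).ne_top)
      (Ideal.map_le_iff_le_comap.1 hm.le)))⟩
  rw [← maximalIdeal_height_eq_ringKrullDim, ← maximalIdeal_height_eq_ringKrullDim]
  congr 1
  rw [Ideal.height_eq_height_add_of_liesOver_of_hasGoingDown (maximalIdeal D) (maximalIdeal E)]
  have : ((maximalIdeal E).map (Ideal.Quotient.mk ((maximalIdeal D).map (algebraMap D E)))) = ⊥ := by
    rw [hm]
    exact Ideal.map_quotient_self _
  rw [this]
  haveI := (Ideal.Quotient.nontrivial_iff (I := (maximalIdeal D).map (algebraMap D E))).2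
    (hm ▸ (maximalIdeal.isMaximal E).ne_top)
  rw [Ideal.height_bot, add_zero]

/-- The residue surjectivity propagates to the powers of the maximal ideal. -/
theorem exists_sub_mem_pow [IsLocalRing D] [IsLocalRing E]
    (hm : (maximalIdeal D).map (algebraMap D E) = maximalIdeal E)
    (hres : ∀ b, ∃ r, b - algebraMap D E r ∈ maximalIdeal E) (j : ℕ) (b : E) :
    ∃ r, b - algebraMap D E r ∈ maximalIdeal E ^ j := by
  induction j generalizing b with
  | zero => exact ⟨0, by simp⟩
  | succ j ih =>
    obtain ⟨r, hr⟩ := ih b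
    have hr' : b - algebraMap D E r ∈ Submodule.span E (algebraMap D E '' ((maximalIdeal D ^ j : Ideal D) : Set D)) := by
      have h := hr
      rw [← hm, ← Ideal.map_pow] at h
      exact h
    suffices ∀ x ∈ Submodule.span E (algebraMap D E '' ((maximalIdeal D ^ j : Ideal D) : Set D)),
        ∃ r, x - algebraMap D E r ∈ maximalIdeal E ^ (j + 1) by
      obtain ⟨r', hr''⟩ := this _ hr'
      exact ⟨r + r', by rwa [map_add, ← sub_sub]⟩
    intro x hx
    induction hx using Submodule.span_induction with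
    | mem x hx =>
      obtain ⟨y, -, rfl⟩ := hx
      exact ⟨y, by simp⟩
    | zero => exact ⟨0, by simp⟩
    | add x y _ _ h₁ h₂ =>
      obtain ⟨r₁, h₁⟩ := h₁
      obtain ⟨r₂, h₂⟩ := h₂
      exact ⟨r₁ + r₂, by rw [map_add, add_sub_add_comm]; exact add_mem h₁ h₂⟩
    | smul c x hx h =>
      obtain ⟨rx, hrx⟩ := h
      obtain ⟨rc, hrc⟩ := hres c
      refine ⟨rc * rx, ?_⟩
      have hxj : x ∈ maximalIdeal E ^ j := by
        rw [← hm, ← Ideal.map_pow]
        exact hx
      rw [smul_eq_mul, map_mul, show c * x - algebraMap D E rc * algebraMap D E rx =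
        (c - algebraMap D E rc) * x + algebraMap D E rc * (x - algebraMap D E rx) by ring]
      refine add_mem ?_ (Ideal.mul_mem_left _ _ hrx)
      rw [pow_succ']
      exact Ideal.mul_mem_mul hrc hxj

/-- Colon ideals commute with flat extensions. -/
theorem mem_map_of_forall_mul_eq [Module.Flat D E] {n : ℕ} (y : Fin n → D) (t : D) (β : E)
    (c : Fin n → E) (h : ∀ i, algebraMap D E (y i) * β = algebraMap D E t * c i) :
    ∃ I : Ideal D, (∀ u ∈ I, ∀ i, y i * u ∈ Ideal.span {t}) ∧ β ∈ I.map (algebraMap D E) := by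
  classical
  let f : (Fin n → D) →ₗ[D] (Option (Fin n) → D) := Fintype.linearCombination D
    fun i ↦ y i • Pi.single none 1 - t • Pi.single (some i) 1
  let x : (Option (Fin n) → D) →ₗ[D] E := Fintype.linearCombination D
    fun o ↦ o.elim β c
  have hx : ∀ o, x (Pi.single o 1) = o.elim β c := fun o ↦ by
    simp [x, Fintype.linearCombination_apply_single]
  have hxf : x ∘ₗ f = 0 := (Pi.basisFun D (Fin n)).ext fun i ↦ by
    simp only [Pi.basisFun_apply, LinearMap.comp_apply, f, Fintype.linearCombination_apply_single,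
      one_smul, map_sub, map_smul, hx, LinearMap.zero_apply]
    simp [Algebra.smul_def, h i]
  obtain ⟨k, a, z, hxz, haf⟩ := Module.Flat.exists_factorization_of_comp_eq_zero_of_free hxf
  refine ⟨Ideal.span (Set.range fun j ↦ a (Pi.single none 1) j), fun u hu i ↦ ?_, ?_⟩
  · refine (Ideal.span_le (I := Submodule.comap (LinearMap.mulLeft D (y i)) (Ideal.span {t}))).2 ?_ hu
    rintro _ ⟨j, rfl⟩
    have h0 := LinearMap.congr_fun haf (Pi.single i 1)
    simp only [LinearMap.comp_apply, f, Fintype.linearCombination_apply_single, one_smul, map_sub,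
      map_smul, LinearMap.zero_apply] at h0
    have h1 := DFunLike.congr_fun h0 j
    simp only [Finsupp.coe_sub, Finsupp.coe_smul, Pi.sub_apply, Pi.smul_apply, Finsupp.coe_zero,
      Pi.zero_apply, smul_eq_mul] at h1
    rw [sub_eq_zero] at h1
    show y i * _ ∈ Ideal.span {t}
    rw [h1]
    exact Ideal.mul_mem_right _ _ (Ideal.mem_span_singleton_self t)
  · have h2 : β = z (a (Pi.single none 1)) := by
      rw [← LinearMap.comp_apply, ← hxz, hx]
      rfl
    have h3 : z (a (Pi.single none 1)) = z ((a (Pi.single none 1)).sum Finsupp.single) := by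
      rw [Finsupp.sum_single]
    rw [h2, h3, map_finsuppSum]
    refine Ideal.sum_mem _ fun j _ ↦ ?_
    dsimp only
    rw [show Finsupp.single j (a (Pi.single none 1) j) = a (Pi.single none 1) j • Finsupp.single j (1 : D) by
      rw [Finsupp.smul_single_one], map_smul, Algebra.smul_def]
    exact Ideal.mul_mem_right _ _ (Ideal.mem_map_of_mem _ (Ideal.subset_span ⟨j, rfl⟩))

/-- A tensor product with a finite local domain over a henselian ring is local. -/
theorem isLocalRing_tensor [IsLocalRing D] [IsLocalRing E]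
    (hm : (maximalIdeal D).map (algebraMap D E) = maximalIdeal E)
    (hres : ∀ b, ∃ r, b - algebraMap D E r ∈ maximalIdeal E)
    (D' : Type u) [CommRing D'] [IsLocalRing D'] [Algebra D D'] [Algebra.IsIntegral D D']
    [Nontrivial (E ⊗[D] D')] : IsLocalRing (E ⊗[D] D') := by
  let iL : E →+* E ⊗[D] D' := algebraMap E (E ⊗[D] D')
  let iR : D' →+* E ⊗[D] D' := (Algebra.TensorProduct.includeRight (R := D) (A := E)).toRingHom
  have hE : ∀ M : Ideal (E ⊗[D] D'), M.IsMaximal → ∀ e ∈ maximalIdeal E, iL e ∈ M := fun M hM e he ↦ by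
    haveI := hM
    haveI : Algebra.IsIntegral E (E ⊗[D] D') := inferInstance
    haveI := Ideal.isMaximal_comap_of_isIntegral_of_isMaximal (R := E) M
    rw [← IsLocalRing.eq_maximalIdeal ‹(M.comap (algebraMap E (E ⊗[D] D'))).IsMaximal›] at he
    exact he
  have hD : ∀ M : Ideal (E ⊗[D] D'), M.IsMaximal → M.comap iR = maximalIdeal D' := fun M hM ↦ by
    haveI := hM
    haveI : (M.comap iR).IsPrime := Ideal.IsPrime.comap _
    refine IsLocalRing.eq_maximalIdeal (Ideal.isMaximal_of_isIntegral_of_isMaximal_comap (R := D) _ ?_)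
    have : ((M.comap iR).comap (algebraMap D D')) = maximalIdeal D := by
      refine ((maximalIdeal.isMaximal D).eq_of_le (Ideal.IsPrime.comap _).ne_top fun r hr ↦ ?_).symm
      rw [Ideal.mem_comap, Ideal.mem_comap]
      have := hE M hM (algebraMap D E r) (hm.le (Ideal.mem_map_of_mem _ hr))
      have e : iR (algebraMap D D' r) = iL (algebraMap D E r) :=
        (AlgHom.commutes (Algebra.TensorProduct.includeRight (R := D) (A := E) (B := D')) r).trans
          (IsScalarTower.algebraMap_apply D E (E ⊗[D] D') r)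
      rw [e]
      exact this
    rw [this]
    exact maximalIdeal.isMaximal D
  have hz : ∀ z : E ⊗[D] D', ∃ d, ∀ M : Ideal (E ⊗[D] D'), M.IsMaximal → z - iR d ∈ M := fun z ↦ by
    induction z using TensorProduct.induction_on with
    | zero => exact ⟨0, fun M _ ↦ by simp⟩
    | add a b ha hb =>
      obtain ⟨d₁, h₁⟩ := ha
      obtain ⟨d₂, h₂⟩ := hb
      exact ⟨d₁ + d₂, fun M hM ↦ by rw [map_add, add_sub_add_comm]; exact add_mem (h₁ M hM) (h₂ M hM)⟩
    | tmul e d =>
      obtain ⟨r, hr⟩ := hres e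
      refine ⟨r • d, fun M hM ↦ ?_⟩
      have : e ⊗ₜ[D] d - iR (r • d) = iL (e - algebraMap D E r) * iR d := by
        rw [map_sub, sub_mul]
        congr 1
        · simp [iL, iR, Algebra.TensorProduct.algebraMap_apply]
        · rw [Algebra.smul_def, map_mul]
          congr 1
          exact (AlgHom.commutes (Algebra.TensorProduct.includeRight (R := D) (A := E) (B := D')) r).trans
            (IsScalarTower.algebraMap_apply D E (E ⊗[D] D') r)
      rw [this]
      exact Ideal.mul_mem_right _ _ (hE M hM _ hr)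
  obtain ⟨M₀, hM₀⟩ := Ideal.exists_maximal (E ⊗[D] D')
  refine IsLocalRing.of_unique_max_ideal ⟨M₀, hM₀, fun M hM ↦ hM.eq_of_le hM₀.ne_top fun z hzM ↦ ?_⟩
  obtain ⟨d, hd⟩ := hz z
  have : iR d ∈ M := by simpa using sub_mem hzM (hd M hM)
  have hd' : iR d ∈ M₀ := by
    rw [← Ideal.mem_comap, hD M₀ hM₀, ← hD M hM, Ideal.mem_comap]
    exact this
  simpa using add_mem (hd M₀ hM₀) hd'

/-- A henselian local domain with an extension as above having a one-dimensional irreducible
component is one-dimensional. -/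
theorem ringKrullDim_eq_one [IsDomain D] [HenselianLocalRing D] [IsNoetherianRing D] [IsLocalRing E]
    [IsNoetherianRing E] [Module.Flat D E]
    (hm : (maximalIdeal D).map (algebraMap D E) = maximalIdeal E)
    (hres : ∀ b, ∃ r, b - algebraMap D E r ∈ maximalIdeal E)
    {Q : Ideal E} (hQ : Q ∈ minimalPrimes E) (hdim : ringKrullDim (E ⧸ Q) = 1) :
    ringKrullDim D = 1 := by
  classical
  have hDE := ringKrullDim_eq_of_map_maximalIdeal hm
  by_contra hne
  haveI : IsLocalHom (algebraMap D E) :=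
    ((local_hom_TFAE (algebraMap D E)).out 0 2 rfl rfl).2 hm.le
  haveI : Module.FaithfullyFlat D E := .of_flat_of_isLocalHom
  haveI hQp : Q.IsPrime := hQ.1.1
  have hQle : ∀ Q' ∈ minimalPrimes E, Q' ≤ Q → Q' = Q := fun Q' hQ' h ↦
    le_antisymm h (hQ.2 hQ'.1 h)
  have hfin : (minimalPrimes E).Finite := minimalPrimes.finite_of_isNoetherianRing E
  let S : Finset (Ideal E) := hfin.toFinset.erase Q
  let J : Ideal E := S.inf id
  have hJQ : ¬ J ≤ Q := fun h ↦ by
    obtain ⟨Q', hQ', hle⟩ := (Ideal.IsPrime.inf_le' hQp).1 h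
    rw [Finset.mem_erase, Set.Finite.mem_toFinset] at hQ'
    exact hQ'.1 (hQle Q' hQ'.2 hle)
  have hnil : Q ⊓ J ≤ nilradical E := fun z hz ↦ by
    rw [nilradical_eq_sInf, Ideal.mem_sInf]
    intro p hp
    haveI : p.IsPrime := hp
    obtain ⟨q, hq, hqp⟩ := Ideal.exists_minimalPrimes_le (I := (⊥ : Ideal E)) (J := p) bot_le
    refine hqp ?_
    by_cases hqQ : q = Q
    · exact hqQ ▸ hz.1
    · exact (Finset.inf_le (f := id) (Finset.mem_erase.2 ⟨hqQ, hfin.mem_toFinset.2 hq⟩)) hz.2
  have hother : ∃ Q' ∈ S, True := by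
    by_contra hS
    push Not at hS
    have hJtop : J = ⊤ := by
      have : S = ∅ := Finset.eq_empty_of_forall_notMem fun x hx ↦ hS x hx
      simp [J, this]
    rw [hJtop, inf_top_eq] at hnil
    have hQn : nilradical E = Q := le_antisymm (nilradical_le_prime Q) hnil
    refine hne ?_
    rw [← hDE, ← hdim, ← hQn]
    rw [ringKrullDim_quotient, show PrimeSpectrum.zeroLocus (nilradical E : Set E) = Set.univ from
      Set.eq_univ_of_forall fun p ↦ nilradical_le_prime p.asIdeal]
    exact (Order.krullDim_eq_of_orderIso OrderIso.Set.univ).symm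
  obtain ⟨L, hL⟩ := (IsNoetherianRing.isNilpotent_nilradical E)
  rw [Ideal.zero_eq_bot] at hL
  obtain ⟨k, hk⟩ : ∃ k, maximalIdeal E ^ k ≤ Q ⊔ J := by
    refine Ideal.exists_pow_le_of_le_radical_of_fg ?_ (Ideal.fg_of_isNoetherianRing _)
    rw [Ideal.radical_eq_sInf]
    refine le_sInf fun p hp ↦ ?_
    haveI := hp.2
    have hQp' : Q < p := lt_of_le_of_ne (le_sup_left.trans hp.1) fun h ↦
      hJQ ((le_sup_right.trans hp.1).trans h.ge)
    by_contra hlt
    have hlt' : p < maximalIdeal E := lt_of_le_of_ne (le_maximalIdeal hp.2.ne_top) fun h ↦ hlt h.ge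
    have h2 : ∀ r : Ideal E, r.IsPrime → Q ≤ r → (r.map (Ideal.Quotient.mk Q)).IsPrime := fun r hr h ↦
      Ideal.map_isPrime_of_surjective (H := hr) Ideal.Quotient.mk_surjective (by rwa [Ideal.mk_ker])
    have h3 : (2 : WithBot ℕ∞) ≤ ringKrullDim (E ⧸ Q) := by
      have hc : ∀ r : Ideal E, Q ≤ r → (r.map (Ideal.Quotient.mk Q)).comap (Ideal.Quotient.mk Q) = r :=
        fun r h ↦ by rw [Ideal.comap_map_of_surjective' _ Ideal.Quotient.mk_surjective, Ideal.mk_ker,
          sup_eq_left.2 h]
      refine le_trans ?_ (Order.LTSeries.length_le_krullDim (((RelSeries.singleton (α := PrimeSpectrum (E ⧸ Q)) _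
        ⟨_, h2 Q hQp le_rfl⟩).snoc ⟨_, h2 p hp.2 hQp'.le⟩ ?_).snoc
        ⟨_, h2 _ (maximalIdeal.isMaximal E).isPrime (hQp'.le.trans hlt'.le)⟩ ?_))
      · exact le_of_eq rfl
      · refine lt_of_le_of_ne (Ideal.map_mono hQp'.le) fun h ↦ hQp'.ne ?_
        rw [← hc Q le_rfl, ← hc p hQp'.le]
        exact congrArg (Ideal.comap _) h
      · simp only [RelSeries.last_snoc]
        refine lt_of_le_of_ne (Ideal.map_mono hlt'.le) fun h ↦ hlt'.ne ?_
        rw [← hc p hQp'.le, ← hc _ (hQp'.le.trans hlt'.le)]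
        exact congrArg (Ideal.comap _) h
    rw [hdim] at h3
    exact absurd h3 (by decide)
  let A₁ : Ideal E := Q ^ L
  let B₁ : Ideal E := J ^ L
  let K : ℕ := k * (L + L) + 1
  have hAB : ∀ α ∈ A₁, ∀ β ∈ B₁, α * β = 0 := fun α hα β hβ ↦ by
    have : α * β ∈ (nilradical E) ^ L := by
      refine Ideal.pow_right_mono (le_trans Ideal.mul_le_inf hnil) L ?_
      rw [mul_pow]
      exact Ideal.mul_mem_mul hα hβ
    rwa [hL, Ideal.mem_bot] at this
  have hmK : maximalIdeal E ^ K ≤ A₁ ⊔ B₁ :=
    calc maximalIdeal E ^ K ≤ maximalIdeal E ^ (k * (L + L)) := Ideal.pow_le_pow_right (Nat.le_succ _)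
      _ = (maximalIdeal E ^ k) ^ (L + L) := pow_mul _ _ _
      _ ≤ (Q ⊔ J) ^ (L + L) := Ideal.pow_right_mono hk _
      _ ≤ Q ^ L ⊔ J ^ L := Ideal.sup_pow_add_le_pow_sup_pow
  obtain ⟨s, hs, hs0⟩ : ∃ s ∈ maximalIdeal D, s ≠ 0 := by
    refine Submodule.exists_mem_ne_zero_of_ne_bot fun h ↦ ?_
    have h0 : ringKrullDim E = 0 := by
      rw [hDE, ← maximalIdeal_height_eq_ringKrullDim, h, Ideal.height_bot]
      rfl
    have := ringKrullDim_quotient_le Q
    rw [hdim, h0] at this
    exact absurd this (by decide)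
  have htD : s ^ K ≠ 0 := pow_ne_zero _ hs0
  have hreg : ∀ z : E, algebraMap D E (s ^ K) * z = 0 → z = 0 := fun z hz ↦
    (IsSMulRegular.of_flat (R := D) (S := E) (x := s ^ K) fun a b h ↦ mul_left_cancel₀ htD h) (by
      show algebraMap D E (s ^ K) * z = algebraMap D E (s ^ K) * 0
      rw [hz, mul_zero])
  have htm : algebraMap D E (s ^ K) ∈ maximalIdeal E ^ K := by
    rw [map_pow]
    exact Ideal.pow_mem_pow (hm.le (Ideal.mem_map_of_mem _ hs)) K
  obtain ⟨α, hα, β, hβ, hαβ⟩ := Submodule.mem_sup.1 (hmK htm)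
  have hβ2 : β * β = algebraMap D E (s ^ K) * β := by
    rw [← hαβ, add_mul, hAB α hα β hβ, zero_add]
  have hβ0 : β ≠ 0 := fun h ↦ by
    rw [h, add_zero] at hαβ
    refine hJQ fun z hz ↦ hQp.mem_of_pow_mem L ?_
    have hzB : z ^ L ∈ B₁ := Ideal.pow_mem_pow hz L
    rw [hreg (z ^ L) (hαβ ▸ hAB α hα _ hzB)]
    exact zero_mem _
  have hβ1 : β ≠ algebraMap D E (s ^ K) := fun h ↦ by
    have hα0 : α = 0 := by rwa [h, add_eq_right] at hαβ
    obtain ⟨Q', hQ', -⟩ := hother
    rw [Finset.mem_erase, Set.Finite.mem_toFinset] at hQ'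
    haveI := hQ'.2.1.1
    refine hQ'.1 (le_antisymm ?_ ?_)
    · refine hQ'.2.2 ⟨hQp, bot_le⟩ fun z hz ↦ Ideal.IsPrime.mem_of_pow_mem inferInstance L ?_
      rw [hreg (z ^ L) (by rw [mul_comm]; exact h ▸ hAB _ (Ideal.pow_mem_pow hz L) β hβ)]
      exact zero_mem _
    · exact fun z hz ↦ Ideal.IsPrime.mem_of_pow_mem inferInstance L (by
        rw [hreg (z ^ L) (by rw [mul_comm]; exact h ▸ hAB _ (Ideal.pow_mem_pow hz L) β hβ)]
        exact zero_mem _)
  obtain ⟨n, y, hy⟩ := Submodule.fg_iff_exists_fin_generating_family.1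
    (Ideal.fg_of_isNoetherianRing (maximalIdeal D ^ K))
  have hyc : ∀ i, ∃ c, algebraMap D E (y i) * β = algebraMap D E (s ^ K) * c := fun i ↦ by
    have hyi : algebraMap D E (y i) ∈ maximalIdeal E ^ K := by
      rw [← hm, ← Ideal.map_pow]
      exact Ideal.mem_map_of_mem _ (hy ▸ Submodule.subset_span ⟨i, rfl⟩)
    obtain ⟨αy, hαy, βy, hβy, hy'⟩ := Submodule.mem_sup.1 (hmK hyi)
    refine ⟨βy, ?_⟩
    rw [← hy', ← hαβ, add_mul, add_mul, hAB αy hαy β hβ, hAB α hα βy hβy, zero_add, zero_add, mul_comm]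
  choose c hc using hyc
  obtain ⟨I, hI, hβI⟩ := mem_map_of_forall_mul_eq y (s ^ K) β c hc
  have hI' : I * maximalIdeal D ^ K ≤ Ideal.span {s ^ K} := by
    rw [← hy, Ideal.mul_le]
    intro u hu w hw
    induction hw using Submodule.span_induction with
    | mem w hw => obtain ⟨i, rfl⟩ := hw; rw [mul_comm]; exact hI u hu i
    | zero => simp
    | add a b _ _ ha hb => rw [mul_add]; exact add_mem ha hb
    | smul r a _ ha => rw [smul_eq_mul, mul_left_comm]; exact Ideal.mul_mem_left _ _ ha
  obtain ⟨u, d, hud⟩ : ∃ u d, β = algebraMap D E u + algebraMap D E (s ^ K) * d := by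
    suffices ∀ x ∈ Submodule.span E (algebraMap D E '' (I : Set D)),
        ∃ u ∈ I, x - algebraMap D E u ∈ Ideal.span {algebraMap D E (s ^ K)} by
      obtain ⟨u, -, h⟩ := this β hβI
      obtain ⟨d, hd⟩ := Ideal.mem_span_singleton'.1 h
      exact ⟨u, d, by rw [mul_comm, hd]; ring⟩
    intro x hx
    induction hx using Submodule.span_induction with
    | mem x hx => obtain ⟨w, hw, rfl⟩ := hx; exact ⟨w, hw, by simp⟩
    | zero => exact ⟨0, zero_mem _, by simp⟩
    | add a b _ _ ha hb =>
      obtain ⟨u₁, h₁, h₁'⟩ := ha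
      obtain ⟨u₂, h₂, h₂'⟩ := hb
      exact ⟨u₁ + u₂, add_mem h₁ h₂, by rw [map_add, add_sub_add_comm]; exact add_mem h₁' h₂'⟩
    | smul e a ha h =>
      obtain ⟨u, hu, hu'⟩ := h
      obtain ⟨r, hr⟩ := exists_sub_mem_pow hm hres K e
      refine ⟨r * u, Ideal.mul_mem_left _ _ hu, ?_⟩
      rw [smul_eq_mul, map_mul, show e * a - algebraMap D E r * algebraMap D E u =
        (e - algebraMap D E r) * a + algebraMap D E r * (a - algebraMap D E u) by ring]
      refine add_mem ?_ (Ideal.mul_mem_left _ _ hu')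
      have h1 : (e - algebraMap D E r) * a ∈ (I * maximalIdeal D ^ K).map (algebraMap D E) := by
        rw [Ideal.map_mul, Ideal.map_pow, hm, mul_comm]
        exact Ideal.mul_mem_mul hr ha
      have h2 := Ideal.map_mono hI' h1
      rwa [Ideal.map_span, Set.image_singleton] at h2
  have hu2 : u * u ∈ Ideal.span {s ^ K * u, s ^ K * s ^ K} := by
    rw [← Ideal.comap_map_eq_self_of_faithfullyFlat (B := E) (Ideal.span {s ^ K * u, s ^ K * s ^ K}),
      Ideal.mem_comap, Ideal.map_span, Set.image_pair, Ideal.mem_span_pair]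
    refine ⟨1 - 2 * d, d - d * d, ?_⟩
    rw [hud] at hβ2
    simp only [map_mul]
    linear_combination -hβ2
  obtain ⟨p, q, hpq⟩ := Ideal.mem_span_pair.1 hu2
  let ι := algebraMap D (FractionRing D)
  have hinj : Function.Injective ι := IsFractionRing.injective D (FractionRing D)
  have ht : ι (s ^ K) ≠ 0 := fun h ↦ htD (hinj (h.trans (map_zero _).symm))
  let a : FractionRing D := ι u / ι (s ^ K)
  have ha : IsIntegral D a := by
    refine ⟨Polynomial.X ^ 2 - (Polynomial.C p * Polynomial.X + Polynomial.C q),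
      Polynomial.monic_X_pow_sub (Polynomial.degree_linear_le.trans_lt (by decide)), ?_⟩
    have h := congrArg ι hpq
    simp only [map_add, map_mul] at h
    simp only [Polynomial.eval₂_sub, Polynomial.eval₂_add, Polynomial.eval₂_mul, Polynomial.eval₂_C,
      Polynomial.eval₂_X, Polynomial.eval₂_X_pow, a]
    field_simp
    linear_combination -h
  let D' : Subalgebra D (FractionRing D) := Algebra.adjoin D {a}
  haveI : Module.Finite D D' := Algebra.finite_adjoin_simple_of_isIntegral ha
  haveI : Algebra.IsIntegral D D' := Algebra.IsIntegral.of_finite D D'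
  haveI : IsLocalRing D' := SmoothConn.isLocalRing_of_integral_domain D D'
  have hD'inj : Function.Injective (algebraMap D D') := fun x y h ↦ hinj (congrArg Subtype.val h)
  have hincl : Function.Injective (Algebra.TensorProduct.includeLeft : E →ₐ[D] E ⊗[D] D') :=
    Algebra.TensorProduct.includeLeft_injective hD'inj
  haveI : Nontrivial (E ⊗[D] D') := hincl.nontrivial
  haveI := isLocalRing_tensor hm hres D'
  let a' : D' := ⟨a, Algebra.subset_adjoin (Set.mem_singleton a)⟩
  have hsa : s ^ K • a' = algebraMap D D' u := Subtype.ext (by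
    show s ^ K • a = ι u
    rw [Algebra.smul_def]
    exact mul_div_cancel₀ _ ht)
  let ε : E ⊗[D] D' := 1 ⊗ₜ a' + d ⊗ₜ 1
  have hε : s ^ K • ε = β ⊗ₜ 1 := by
    rw [smul_add, ← TensorProduct.tmul_smul, hsa, TensorProduct.smul_tmul', hud, TensorProduct.add_tmul,
      Algebra.smul_def, Algebra.algebraMap_eq_smul_one u, ← TensorProduct.smul_tmul,
      ← Algebra.algebraMap_eq_smul_one]
  have hregT : IsSMulRegular (E ⊗[D] D') (s ^ K) := by
    have hr : IsSMulRegular D' (s ^ K) := fun x y h ↦
      Subtype.ext (smul_right_injective (FractionRing D) htD (congrArg Subtype.val h))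
    intro x y hxy
    refine IsSMulRegular.of_flat_of_isBaseChange (S := E) (TensorProduct.isBaseChange D D' E) hr ?_
    simpa only [algebraMap_smul] using hxy
  have hidem : IsIdempotentElem ε := by
    apply hregT
    apply hregT
    show s ^ K • s ^ K • (ε * ε) = s ^ K • s ^ K • ε
    rw [← smul_mul_assoc, ← mul_smul_comm, hε, Algebra.TensorProduct.tmul_mul_tmul, mul_one, hβ2,
      TensorProduct.smul_tmul', Algebra.smul_def]
  rcases IsLocalRing.isUnit_or_isUnit_one_sub_self ε with h | h
  · refine hβ1 (hincl ?_)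
    have : ε = 1 := (IsIdempotentElem.iff_eq_one_of_isUnit h).1 hidem
    simp only [Algebra.TensorProduct.includeLeft_apply]
    rw [← hε, this, Algebra.TensorProduct.one_def, TensorProduct.smul_tmul', Algebra.smul_def, mul_one]
  · refine hβ0 (hincl ?_)
    have : ε = 0 := by
      have := (IsIdempotentElem.iff_eq_one_of_isUnit h).1 hidem.one_sub
      simpa using this
    rw [map_zero]
    simp only [Algebra.TensorProduct.includeLeft_apply]
    rw [← hε, this, smul_zero]

end GrothLib.HensDimOne4
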