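import Groth.Agent.Lib.HensDimOne4.Basic
import Groth.Agent.Lib.Hensel.CompletionHens
import Groth.Agent.Lib.Hensel.TensorIntegral
import Mathlib.RingTheory.Ideal.Quotient.Operations

/-!
# One-dimensional branches of a local ring and of its completion
-/

universe u

open IsLocalRing TensorProduct

namespace GrothLib.HensDimOne4

open GrothLib.Hensel

variable {B C : Type u} [CommRing B] [CommRing C] [Algebra B C] [Algebra.HasGoingDown B C]

/-- Minimal primes over an extended prime lie over it. -/
theorem under_eq_of_mem_minimalPrimes (q : Ideal B) [q.IsPrime] {Q : Ideal C}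
    (hQ : Q ∈ (q.map (algebraMap B C)).minimalPrimes) : Q.under B = q := by
  haveI := hQ.1.1
  have hle : q ≤ Q.under B := Ideal.map_le_iff_le_comap.1 hQ.1.2
  rcases hle.lt_or_eq with h | h
  · obtain ⟨Q', hlt, hQ'p, hQ'o⟩ := Ideal.exists_ideal_lt_liesOver_of_lt Q h
    exact absurd (hQ.2 ⟨hQ'p, Ideal.map_le_iff_le_comap.2 hQ'o.over.le⟩ hlt.le) hlt.not_ge
  · exact h.symm

/-- Restrictions of minimal primes over an extended ideal are minimal. -/
theorem under_mem_minimalPrimes (I : Ideal B) {Q : Ideal C}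
    (hQ : Q ∈ (I.map (algebraMap B C)).minimalPrimes) : Q.under B ∈ I.minimalPrimes := by
  haveI := hQ.1.1
  refine ⟨⟨inferInstance, Ideal.map_le_iff_le_comap.1 hQ.1.2⟩, fun q hq hle ↦ ?_⟩
  haveI := hq.1
  rcases hle.lt_or_eq with h | h
  · obtain ⟨Q', hlt, hQ'p, hQ'o⟩ := Ideal.exists_ideal_lt_liesOver_of_lt Q h
    exact absurd (hQ.2 ⟨hQ'p, Ideal.map_le_iff_le_comap.2 (hq.2.trans hQ'o.over.le)⟩ hlt.le) hlt.not_ge
  · exact h.ge

/-- Minimal primes over minimal primes. -/
theorem mem_minimalPrimes_map_of_mem (I : Ideal B) {q : Ideal B} (hq : q ∈ I.minimalPrimes)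
    {Q : Ideal C} (hQ : Q ∈ (q.map (algebraMap B C)).minimalPrimes) :
    Q ∈ (I.map (algebraMap B C)).minimalPrimes := by
  haveI := hq.1.1
  haveI := hQ.1.1
  refine ⟨⟨inferInstance, (Ideal.map_mono hq.1.2).trans hQ.1.2⟩, fun Q' hQ' hle ↦ ?_⟩
  haveI := hQ'.1
  refine hQ.2 ⟨hQ'.1, Ideal.map_le_iff_le_comap.2 ?_⟩ hle
  exact hq.2 ⟨Ideal.IsPrime.comap _, Ideal.map_le_iff_le_comap.1 hQ'.2⟩
    ((Ideal.comap_mono hle).trans (under_eq_of_mem_minimalPrimes q hQ).le)

omit [Algebra.HasGoingDown B C] in
theorem mem_minimalPrimes_map_under {I : Ideal B} {Q : Ideal C}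
    (hQ : Q ∈ (I.map (algebraMap B C)).minimalPrimes) :
    Q ∈ ((Q.under B).map (algebraMap B C)).minimalPrimes :=
  ⟨⟨hQ.1.1, Ideal.map_le_iff_le_comap.2 le_rfl⟩, fun _ hQ' hle ↦
    hQ.2 ⟨hQ'.1, (Ideal.map_mono (Ideal.map_le_iff_le_comap.1 hQ.1.2)).trans hQ'.2⟩ hle⟩

omit [Algebra.HasGoingDown B C] in
theorem flat_quotient [Module.Flat B C] (J : Ideal B) :
    Module.Flat (B ⧸ J) (C ⧸ J.map (algebraMap B C)) := by
  let e : (B ⧸ J) ⊗[B] C ≃ₗ[B] C ⧸ J.map (algebraMap B C) :=
    (TensorProduct.comm B _ _).trans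
      ((Algebra.TensorProduct.quotIdealMapEquivTensorQuot C J).symm.toLinearEquiv.restrictScalars B)
  exact Module.Flat.of_linearEquiv
    (LinearEquiv.extendScalarsOfSurjective (S := B ⧸ J) Ideal.Quotient.mk_surjective e).symm

/-- Strict henselizations of a local ring and of its completion. -/
theorem exists_algebra_strictHenselization {A : Type u} [CommRing A] [IsNoetherianRing A] [IsLocalRing A]
    (S' : Type u) [CommRing S'] [IsLocalRing S'] [Algebra A S'] [IsLocalHom (algebraMap A S')]
    [_root_.Hensel.IsStrictHenselization A S']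
    (T' : Type u) [CommRing T'] [IsLocalRing T'] [Algebra (AdicCompletion (maximalIdeal A) A) T']
    [IsLocalHom (algebraMap (AdicCompletion (maximalIdeal A) A) T')]
    [_root_.Hensel.IsStrictHenselization (AdicCompletion (maximalIdeal A) A) T'] :
    ∃ _ : Algebra S' T', Module.FaithfullyFlat S' T' ∧
      (maximalIdeal S').map (algebraMap S' T') = maximalIdeal T' ∧
      (∀ b, ∃ r, b - algebraMap S' T' r ∈ maximalIdeal T') ∧
      (algebraMap S' T').comp (algebraMap A S') =
        (algebraMap (AdicCompletion (maximalIdeal A) A) T').comp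
          (algebraMap A (AdicCompletion (maximalIdeal A) A)) := by
  set B := AdicCompletion (maximalIdeal A) A
  let _ : Algebra A T' := ((algebraMap B T').comp (algebraMap A B)).toAlgebra
  have : IsScalarTower A B T' := IsScalarTower.of_algebraMap_eq fun _ ↦ rfl
  have : IsLocalHom (algebraMap A T') := by
    rw [IsScalarTower.algebraMap_eq A B T']
    infer_instance
  have hT : _root_.Hensel.IsStrictHenselization A S' := inferInstance
  have hT' : _root_.Hensel.IsStrictHenselization B T' := inferInstance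
  have := hT'.henselian
  have hsep := hT.isSepClosure
  have hsep' := hT'.isSepClosure
  have hbij : Function.Bijective (algebraMap (ResidueField A) (ResidueField B)) :=
    AdicCompletion.residueField_map_bijective A
  have : IsScalarTower (ResidueField A) (ResidueField B) (ResidueField T') :=
    IsScalarTower.of_algebraMap_eq fun x ↦ by
      obtain ⟨a, rfl⟩ := residue_surjective x
      rfl
  have : IsSepClosure (ResidueField A) (ResidueField T') := by
    refine ⟨hsep'.sep_closed, ⟨fun x ↦ ?_⟩⟩
    have hxB := hsep'.separable.isSeparable' x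
    let e : ResidueField A ≃+* ResidueField B := RingEquiv.ofBijective _ hbij
    have hm : (minpoly (ResidueField B) x).map e.symm.toRingHom |>.Separable :=
      Polynomial.Separable.map hxB
    refine Polynomial.Separable.of_dvd hm (minpoly.dvd _ _ ?_)
    rw [← Polynomial.aeval_map_algebraMap (ResidueField B), Polynomial.map_map]
    have : (algebraMap (ResidueField A) (ResidueField B)).comp e.symm.toRingHom = RingHom.id _ :=
      RingHom.ext fun y ↦ e.apply_symm_apply y
    rw [this, Polynomial.map_id, minpoly.aeval]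
  let τ := IsSepClosure.equiv (ResidueField A) (ResidueField S') (ResidueField T')
  obtain ⟨g, hg⟩ := IsStrictHenselization.exists_algHom (S := S') T' τ.toAlgHom
  refine ⟨g.toRingHom.toAlgebra, ?_⟩
  let _ : Algebra S' T' := g.toRingHom.toAlgebra
  have : IsScalarTower A S' T' := IsScalarTower.of_algebraMap_eq fun a ↦ (g.commutes a).symm
  have := IsStrictHenselization.faithfullyFlat (R := B) (S := T')
  have : Module.Flat A T' := Module.Flat.trans A B T'
  have : Module.Flat S' T' :=
    (IsStrictHenselization.etaleStages (A := A) (S := S')).flat_of_restrictScalars _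
  have hlocal : IsLocalHom (algebraMap S' T') := ⟨fun x hx ↦ by
    by_contra hu
    have h0 : residue S' x = 0 := (residue_eq_zero_iff x).mpr hu
    exact (residue_ne_zero_iff_isUnit (g x)).mpr hx (by rw [hg, h0, map_zero])⟩
  refine ⟨.of_flat_of_isLocalHom, ?_, fun b ↦ ?_, g.comp_algebraMap⟩
  · rw [← IsStrictHenselization.map_maximalIdeal (R := A) (S := S'), Ideal.map_map,
      ← IsScalarTower.algebraMap_eq, IsScalarTower.algebraMap_eq A B T', ← Ideal.map_map,
      ← AdicCompletion.maximalIdeal_eq_map, IsStrictHenselization.map_maximalIdeal]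
  · obtain ⟨r, hr⟩ := residue_surjective (τ.symm (residue T' b))
    refine ⟨r, Ideal.Quotient.eq.mp ?_⟩
    show residue T' b = residue T' (g r)
    rw [hg]
    show _ = τ (residue S' r)
    rw [hr, AlgEquiv.apply_symm_apply]

/-- One-dimensional branches through a prime: the same for a local ring and its completion. -/
theorem exists_dim_one_iff_completion {A : Type u} [CommRing A] [IsNoetherianRing A] [IsLocalRing A]
    (S' : Type u) [CommRing S'] [IsLocalRing S'] [Algebra A S'] [IsLocalHom (algebraMap A S')]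
    [_root_.Hensel.IsStrictHenselization A S']
    (T' : Type u) [CommRing T'] [IsLocalRing T'] [Algebra (AdicCompletion (maximalIdeal A) A) T']
    [IsLocalHom (algebraMap (AdicCompletion (maximalIdeal A) A) T')]
    [_root_.Hensel.IsStrictHenselization (AdicCompletion (maximalIdeal A) A) T'] (p : Ideal A) :
    (∃ P ∈ (p.map (algebraMap A S')).minimalPrimes, ringKrullDim (S' ⧸ P) = 1) ↔
    (∃ q ∈ (p.map (algebraMap A (AdicCompletion (maximalIdeal A) A))).minimalPrimes,
      ∃ Q ∈ (q.map (algebraMap (AdicCompletion (maximalIdeal A) A) T')).minimalPrimes,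
        ringKrullDim (T' ⧸ Q) = 1) := by
  obtain ⟨_, hff, hm, hres, hcomp⟩ := exists_algebra_strictHenselization S' T' (A := A)
  set B := AdicCompletion (maximalIdeal A) A
  haveI := (inferInstance : _root_.Hensel.IsStrictHenselization A S').henselian
  haveI := IsStrictHenselization.faithfullyFlat (R := B) (S := T')
  haveI : IsNoetherianRing S' :=
    (IsStrictHenselization.isNoetherianRing_iff (R := A) (S := S')).mp inferInstance
  haveI : IsNoetherianRing T' :=
    (IsStrictHenselization.isNoetherianRing_iff (R := B) (S := T')).mp inferInstance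
  have hp : (p.map (algebraMap A B)).map (algebraMap B T') =
      (p.map (algebraMap A S')).map (algebraMap S' T') := by
    rw [Ideal.map_map, Ideal.map_map, hcomp]
  have hR : (∃ q ∈ (p.map (algebraMap A B)).minimalPrimes,
      ∃ Q ∈ (q.map (algebraMap B T')).minimalPrimes, ringKrullDim (T' ⧸ Q) = 1) ↔
      ∃ Q ∈ ((p.map (algebraMap A S')).map (algebraMap S' T')).minimalPrimes,
        ringKrullDim (T' ⧸ Q) = 1 := by
    rw [← hp]
    exact ⟨fun ⟨q, hq, Q, hQ, h⟩ ↦ ⟨Q, mem_minimalPrimes_map_of_mem _ hq hQ, h⟩,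
      fun ⟨Q, hQ, h⟩ ↦ ⟨Q.under B, under_mem_minimalPrimes _ hQ, Q, mem_minimalPrimes_map_under hQ, h⟩⟩
  rw [hR]
  have hloc : ∀ P : Ideal S', P.IsPrime → ∃ _ : IsLocalRing (S' ⧸ P),
      ∃ _ : IsLocalRing (T' ⧸ P.map (algebraMap S' T')),
      (maximalIdeal (S' ⧸ P)).map (algebraMap (S' ⧸ P) (T' ⧸ P.map (algebraMap S' T'))) =
        maximalIdeal _ ∧
      ∀ b, ∃ r, b - algebraMap (S' ⧸ P) (T' ⧸ P.map (algebraMap S' T')) r ∈ maximalIdeal _ := by
    intro P hP
    haveI : Nontrivial (S' ⧸ P) := Ideal.Quotient.nontrivial_iff.2 hP.ne_top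
    have hne : P.map (algebraMap S' T') ≠ ⊤ := ne_top_of_le_ne_top (maximalIdeal.isMaximal T').ne_top
      ((Ideal.map_mono (le_maximalIdeal hP.ne_top)).trans hm.le)
    haveI : Nontrivial (T' ⧸ P.map (algebraMap S' T')) := Ideal.Quotient.nontrivial_iff.2 hne
    haveI : IsLocalRing (S' ⧸ P) :=
      .of_surjective' (Ideal.Quotient.mk P) Ideal.Quotient.mk_surjective
    haveI : IsLocalRing (T' ⧸ P.map (algebraMap S' T')) :=
      .of_surjective' (Ideal.Quotient.mk _) Ideal.Quotient.mk_surjective
    refine ⟨inferInstance, inferInstance, ?_, fun b ↦ ?_⟩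
    · rw [← IsLocalRing.map_maximalIdeal_of_surjective (Ideal.Quotient.mk P) Ideal.Quotient.mk_surjective,
        ← IsLocalRing.map_maximalIdeal_of_surjective (Ideal.Quotient.mk (P.map (algebraMap S' T')))
          Ideal.Quotient.mk_surjective, ← hm, Ideal.map_map, Ideal.map_map]
      rfl
    · obtain ⟨b, rfl⟩ := Ideal.Quotient.mk_surjective b
      obtain ⟨r, hr⟩ := hres b
      refine ⟨Ideal.Quotient.mk P r, ?_⟩
      rw [show algebraMap (S' ⧸ P) (T' ⧸ P.map (algebraMap S' T')) (Ideal.Quotient.mk P r) =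
        Ideal.Quotient.mk _ (algebraMap S' T' r) from rfl, ← map_sub,
        ← IsLocalRing.map_maximalIdeal_of_surjective (Ideal.Quotient.mk (P.map (algebraMap S' T')))
          Ideal.Quotient.mk_surjective]
      exact Ideal.mem_map_of_mem _ hr
  constructor
  · rintro ⟨P, hP, hdim⟩
    haveI := hP.1.1
    obtain ⟨_, _, hm', hres'⟩ := hloc P hP.1.1
    haveI := flat_quotient (C := T') P
    have hE := ringKrullDim_eq_of_map_maximalIdeal hm'
    obtain ⟨Q, hQ, hQmax⟩ : ∃ Q ∈ (P.map (algebraMap S' T')).minimalPrimes, Q ≠ maximalIdeal T' := by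
      by_contra h
      push Not at h
      have h0 : Ring.KrullDimLE 0 (T' ⧸ P.map (algebraMap S' T')) := by
        refine Ring.krullDimLE_zero_iff.2 fun r hr ↦ ?_
        haveI := hr
        have hle : P.map (algebraMap S' T') ≤ r.comap (Ideal.Quotient.mk (P.map (algebraMap S' T'))) :=
          fun x hx ↦ by
            rw [Ideal.mem_comap, Ideal.Quotient.eq_zero_iff_mem.2 hx]
            exact zero_mem _
        obtain ⟨Q, hQ, hQr⟩ := Ideal.exists_minimalPrimes_le hle
        rw [h Q hQ] at hQr
        refine Ideal.isMaximal_def.2 ⟨hr.ne_top, fun s hs ↦ ?_⟩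
        by_contra hst
        have hsm := (IsLocalRing.le_maximalIdeal hst)
        rw [← IsLocalRing.map_maximalIdeal_of_surjective (Ideal.Quotient.mk (P.map (algebraMap S' T')))
          Ideal.Quotient.mk_surjective] at hsm
        exact hs.not_ge (hsm.trans (Ideal.map_le_iff_le_comap.2 hQr))
      have := Ring.krullDimLE_iff.1 h0
      rw [hE, hdim] at this
      exact absurd this (by decide)
    haveI := hQ.1.1
    refine ⟨Q, mem_minimalPrimes_map_of_mem _ hP hQ, le_antisymm ?_ ?_⟩
    · refine le_trans ?_ (hE.trans hdim).le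
      exact ringKrullDim_le_of_surjective (Ideal.Quotient.factor hQ.1.2)
        (Ideal.Quotient.factor_surjective _)
    · haveI : IsLocalRing (T' ⧸ Q) :=
        .of_surjective' (Ideal.Quotient.mk Q) Ideal.Quotient.mk_surjective
      rw [← maximalIdeal_height_eq_ringKrullDim]
      refine WithBot.coe_le_coe.2 (Order.one_le_iff_pos.2 (pos_iff_ne_zero.2 fun h ↦ hQmax ?_))
      rw [Ideal.height_eq_zero_iff] at h
      have hbot : maximalIdeal (T' ⧸ Q) = ⊥ := le_bot_iff.1 (h.2 ⟨Ideal.bot_prime, bot_le⟩ bot_le)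
      refine le_antisymm (le_maximalIdeal hQ.1.1.ne_top) fun x hx ↦ ?_
      have : Ideal.Quotient.mk Q x ∈ maximalIdeal (T' ⧸ Q) := by
        rw [← IsLocalRing.map_maximalIdeal_of_surjective (Ideal.Quotient.mk Q) Ideal.Quotient.mk_surjective]
        exact Ideal.mem_map_of_mem _ hx
      rwa [hbot, Ideal.mem_bot, Ideal.Quotient.eq_zero_iff_mem] at this
  · rintro ⟨Q, hQ, hdim⟩
    haveI := hQ.1.1
    refine ⟨Q.under S', under_mem_minimalPrimes _ hQ, ?_⟩
    haveI hP : (Q.under S').IsPrime := inferInstance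
    have hQ' := mem_minimalPrimes_map_under hQ
    generalize Q.under S' = P at hP hQ'
    obtain ⟨_, _, hm', hres'⟩ := hloc P hP
    haveI := flat_quotient (C := T') P
    haveI : IsLocalHom (Ideal.Quotient.mk P) := .of_surjective _ Ideal.Quotient.mk_surjective
    haveI : IsLocalHom (algebraMap S' (S' ⧸ P)) := ‹IsLocalHom (Ideal.Quotient.mk P)›
    haveI : HenselianLocalRing (S' ⧸ P) :=
      GrothLib.Hensel.henselianLocalRing_of_isIntegral_isLocalHom (R := S')
    have hk : RingHom.ker (Ideal.Quotient.mk (P.map (algebraMap S' T'))) ≤ Q := by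
      rw [Ideal.mk_ker]; exact hQ'.1.2
    refine ringKrullDim_eq_one hm' hres' (Q := Q.map (Ideal.Quotient.mk _)) ?_ ?_
    · refine ⟨⟨Ideal.map_isPrime_of_surjective Ideal.Quotient.mk_surjective hk, bot_le⟩, fun r hr hle ↦ ?_⟩
      haveI := hr.1
      refine Ideal.map_le_iff_le_comap.2 (hQ'.2 ⟨Ideal.IsPrime.comap _, fun x hx ↦ ?_⟩ ?_)
      · rw [Ideal.mem_comap, Ideal.Quotient.eq_zero_iff_mem.2 hx]
        exact zero_mem _
      · refine (Ideal.comap_mono hle).trans_eq ?_
        rw [Ideal.comap_map_of_surjective' _ Ideal.Quotient.mk_surjective, sup_eq_left.2 hk]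
    · rw [← hdim]
      exact ringKrullDim_eq_of_ringEquiv (DoubleQuot.quotQuotEquivQuotOfLE hQ'.1.2)

end GrothLib.HensDimOne4
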